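import Cfsg.Agent.Lib.Cert.L32.Tw
import Cfsg.Agent.Lib.Cert.Lin

set_option autoImplicit false
set_option maxRecDepth 100000

namespace Cfsg.Agent.Ct.L32

open Cfsg.Agent.PC

open Cfsg.Agent.Fi Cfsg.Agent.Ct
def Tf_t : TN := (TN.leaf (nat_lit 0xba340dc9c234a11798a8c))
noncomputable def Tf (i : ℕ) : ℕ := get9 Tf_t (nat_lit 3) (nat_lit 7) i
noncomputable def T (j c : ℕ) : ℕ := Tf (Nat.add (Nat.mul j (nat_lit 7)) c)
noncomputable def p0 : ℕ → ℕ := permE T (fun j => j) (nat_lit 7) (nat_lit 4)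
theorem pp0 : Nat.beq (rng p0 (nat_lit 0) (nat_lit 7)) (nat_lit 0) = true := by decide +kernel
theorem hp : ∀ i < 7, p0 i = 0 := by
  have h := zero_lt_zero p0
  have h := zero_lt_add (a := (nat_lit 0)) (n := (nat_lit 7)) (b := (nat_lit 7)) h pp0 rfl
  exact h
abbrev pt : ℕ → Fin 7 := (finLab 6).pt
noncomputable def pf : ℕ → Equiv.Perm (Fin 7) := (finLab 6).fam T (fun j => j)
theorem pr : Reps pt 7 pf T 4 ∧ InvOK pf (fun j => j) 4 := (finLab 6).reps_fam (by decide +kernel) hp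
noncomputable def x1 : ℕ → ℕ := relF T rels
theorem yy0 : Nat.beq (rng x1 (nat_lit 0) (nat_lit 7)) (nat_lit 0) = true := by decide +kernel
theorem hy : ∀ i < 7, x1 i = 0 := by
  have h := zero_lt_zero x1
  have h := zero_lt_add (a := (nat_lit 0)) (n := (nat_lit 7)) (b := (nat_lit 7)) h yy0 rfl
  exact h
theorem rl0 : ∀ w ∈ rels, ev pf w = 1 := rel_of_tab (finLab 6).surj pr.1 (by decide +kernel) hy
abbrev P : Type := ↥(gen pf 4)
noncomputable def al : ℕ → P := PC.sub (gen pf 4) pf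
theorem rp : Reps pt 7 al T 4 := (pr.1.mono (by decide)).sub le_rfl
theorem top : gen al 4 = ⊤ := gen_sub_top rfl
def W0_t : TL := (TL.node (TL.node (TL.leaf [nat_lit 3, nat_lit 1, nat_lit 3]) (TL.leaf [nat_lit 3, nat_lit 0, nat_lit 2, nat_lit 0, nat_lit 3])) (TL.node (TL.leaf [nat_lit 3, nat_lit 1, nat_lit 0, nat_lit 3]) (TL.leaf [nat_lit 0, nat_lit 2, nat_lit 3])))
noncomputable def W0 (i : ℕ) : List ℕ := TL.get W0_t i
def Q0f_t : TN := (TN.leaf (nat_lit 0xccd81672940d71612e298))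
noncomputable def Q0f (i : ℕ) : ℕ := get9 Q0f_t (nat_lit 3) (nat_lit 7) i
noncomputable def Q0 (j c : ℕ) : ℕ := Q0f (Nat.add (Nat.mul j (nat_lit 7)) c)
noncomputable def q0 (j : ℕ) : P := ev al (W0 j)
noncomputable def c0 : ℕ → ℕ := tabE T Q0 W0 (nat_lit 4)
theorem cc0 : Nat.beq (rng c0 (nat_lit 0) (nat_lit 7)) (nat_lit 0) = true := by decide +kernel
theorem hc : ∀ i < 7, c0 i = 0 := by
  have h := zero_lt_zero c0
  have h := zero_lt_add (a := (nat_lit 0)) (n := (nat_lit 7)) (b := (nat_lit 7)) h cc0 rfl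
  exact h
def CV0_t : TN := (TN.leaf (nat_lit 0x475384961))
noncomputable def CV0 (i : ℕ) : ℕ := get9 CV0_t (nat_lit 5) (nat_lit 31) i
def CV1_t : TN := (TN.leaf (nat_lit 0x475980540))
noncomputable def CV1 (i : ℕ) : ℕ := get9 CV1_t (nat_lit 5) (nat_lit 31) i
def CV2_t : TN := (TN.leaf (nat_lit 0x241140020))
noncomputable def CV2 (i : ℕ) : ℕ := get9 CV2_t (nat_lit 5) (nat_lit 31) i
noncomputable def l0 : Lev := ⟨(nat_lit 0), (nat_lit 7), (nat_lit 3), CV0⟩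
noncomputable def lt : List Lev := [⟨(nat_lit 2), (nat_lit 6), (nat_lit 2), CV1⟩, ⟨(nat_lit 1), (nat_lit 4), (nat_lit 0), CV2⟩]
theorem ch : Ch pt 7 q0 Q0 4 8 (l0 :: lt) :=
  ⟨(finLab 6).inj, reps_tabs (rp) (by decide +kernel) hc, by decide +kernel, cardLE_sub (ub4 pr.2 rl0)⟩
def SO_t : TN := (TN.leaf (nat_lit 10921))
noncomputable def SO (i : ℕ) : ℕ := get9 SO_t (nat_lit 2) (nat_lit 3) i
def SV_t : TN := (TN.leaf (nat_lit 0x265142821))
noncomputable def SV (i : ℕ) : ℕ := get9 SV_t (nat_lit 5) (nat_lit 31) i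
def rt (i : ℕ) : ℕ := Nat.land (Nat.shiftRight (nat_lit 4) (Nat.mul (nat_lit 1) i)) (nat_lit 1)
def sz (i : ℕ) : ℕ := Nat.land (Nat.shiftRight (nat_lit 392) (Nat.mul (nat_lit 3) i)) (nat_lit 7)
noncomputable def s0 : ℕ → ℕ := soE Q0 (nat_lit 3) (nat_lit 7) (nat_lit 8) (nat_lit 2) SV SO rt
theorem ss0 : Nat.beq (rng s0 (nat_lit 0) (nat_lit 7)) (nat_lit 0) = true := by decide +kernel
theorem hs : ∀ i < 7, s0 i = 0 := by
  have h := zero_lt_zero s0
  have h := zero_lt_add (a := (nat_lit 0)) (n := (nat_lit 7)) (b := (nat_lit 7)) h ss0 rfl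
  exact h
theorem hsz : ∀ i ≤ 2, 1 ≤ i → cnt SO i 7 = sz i := by decide +kernel
theorem coatom : IsCoatom (MulAction.stabilizer P (pt 0)) :=
  ch.coatom (by decide +kernel) hs sz hsz (k0 := 1) (by decide +kernel) (by decide +kernel)
def B0 : List ℕ := [nat_lit 0, nat_lit 2, nat_lit 1]
theorem md0 : Md pt 7 B0 al T 4 := ch.md (rp) rfl
theorem card : Nat.card P = 168 := ch.card
instance : Finite P := ch.fin
def W1_t : TL := (TL.node (TL.node (TL.node (TL.leaf [nat_lit 0]) (TL.leaf [nat_lit 3, nat_lit 0, nat_lit 3, nat_lit 2, nat_lit 1, nat_lit 0])) (TL.leaf [nat_lit 2])) (TL.node (TL.node (TL.leaf [nat_lit 1]) (TL.leaf [nat_lit 0, nat_lit 2, nat_lit 1, nat_lit 3])) (TL.leaf [nat_lit 3])))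
noncomputable def W1 (i : ℕ) : List ℕ := TL.get W1_t i
def Q1f_t : TN := (TN.leaf (nat_lit 0x217705310d5ba340dc9c234a11798a8c))
noncomputable def Q1f (i : ℕ) : ℕ := get9 Q1f_t (nat_lit 3) (nat_lit 7) i
noncomputable def Q1 (j c : ℕ) : ℕ := Q1f (Nat.add (Nat.mul j (nat_lit 7)) c)
def V1_t : TL := (TL.node (TL.node (TL.leaf [nat_lit 5, nat_lit 5, nat_lit 5, nat_lit 5, nat_lit 5, nat_lit 5, nat_lit 4, nat_lit 5, nat_lit 4]) (TL.leaf [nat_lit 4, nat_lit 4, nat_lit 4, nat_lit 4, nat_lit 4, nat_lit 4, nat_lit 4, nat_lit 4, nat_lit 4, nat_lit 4, nat_lit 4, nat_lit 4, nat_lit 4, nat_lit 4, nat_lit 4, nat_lit 4, nat_lit 4, nat_lit 4, nat_lit 5])) (TL.node (TL.leaf [nat_lit 5, nat_lit 5, nat_lit 5, nat_lit 5, nat_lit 5, nat_lit 5, nat_lit 4, nat_lit 5, nat_lit 5, nat_lit 5, nat_lit 5, nat_lit 5, nat_lit 5, nat_lit 4, nat_lit 4, nat_lit 4, nat_lit 4, nat_lit 4, nat_lit 4]) (TL.leaf [nat_lit 4, nat_lit 4,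 nat_lit 4, nat_lit 4, nat_lit 4, nat_lit 4, nat_lit 4, nat_lit 4, nat_lit 4, nat_lit 4, nat_lit 4, nat_lit 4, nat_lit 5, nat_lit 5, nat_lit 5, nat_lit 5, nat_lit 5, nat_lit 5, nat_lit 5, nat_lit 5, nat_lit 5, nat_lit 5, nat_lit 5, nat_lit 5])))
noncomputable def V1 (i : ℕ) : List ℕ := TL.get V1_t i
noncomputable def e1 : ℕ → ℕ := tabE T Q1 W1 (nat_lit 6)
theorem ee0 : Nat.beq (rng e1 (nat_lit 0) (nat_lit 7)) (nat_lit 0) = true := by decide +kernel
theorem he : ∀ i < 7, e1 i = 0 := by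
  have h := zero_lt_zero e1
  have h := zero_lt_add (a := (nat_lit 0)) (n := (nat_lit 7)) (b := (nat_lit 7)) h ee0 rfl
  exact h
theorem md1 : Md pt 7 B0 (fun j => ev al (W1 j)) Q1 6 := md0.words (by decide +kernel) he
instance simple : IsSimpleGroup P := ch.simple rfl coatom (p := 7) (md1.ord le_rfl (a := ([nat_lit 4], 7)) (by decide +kernel)).2.1
  (by decide +kernel) (md0.ncl (top) md1 (x := 4) (y := 5) [nat_lit 2, nat_lit 0, nat_lit 2, nat_lit 3, nat_lit 0, nat_lit 1] V1 (by decide +kernel))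
theorem ctr : Subgroup.center P = ⊥ := ctr_bot card (by norm_num) (by decide)
theorem iv : InvOK al (fun j => j) 4 := pr.2.sub le_rfl
theorem rl : ∀ w ∈ rels, ev al w = 1 := rels_sub (by decide +kernel) rl0
theorem ub : Ub (fun j => j) rels 4 (Nat.card P) := fun _ _ _ h1 h2 => card ▸ ub4 h1 h2

end Cfsg.Agent.Ct.L32
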