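import Cfsg.Agent.Lib.Cert.Mod
import Cfsg.Agent.Lib.PermCert.PL

set_option autoImplicit false
set_option maxRecDepth 100000

namespace Cfsg.Agent.Ct.L32

open Cfsg.Agent.PC

open Cfsg.Agent.Fi Cfsg.Agent.Ct
namespace L1
def t0x : TN := (TN.leaf (nat_lit 0x84eca21))
def t1x : TN := (TN.leaf (nat_lit 0x2a511a2))
def tt : TN := (TN.node (TN.node (TN.node (TN.node t0x (TN.leaf (nat_lit 0))) (TN.node (TN.leaf (nat_lit 0)) (TN.leaf (nat_lit 0)))) (TN.node (TN.node (TN.leaf (nat_lit 0)) (TN.leaf (nat_lit 0))) (TN.node (TN.leaf (nat_lit 0)) (TN.leaf (nat_lit 0))))) (TN.node (TN.node (TN.node t1x (TN.leaf (nat_lit 0))) (TN.node (TN.leaf (nat_lit 0)) (TN.leaf (nat_lit 0)))) (TN.node (TN.node (TN.leaf (nat_lit 0)) (TN.leaf (nat_lit 0))) (TN.node (TN.leaf (nat_lit 0)) (TN.leaf (nat_lit 0))))))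
noncomputable def T (j c : ℕ) : ℕ := getL tt (nat_lit 7) (nat_lit 3) j c
noncomputable def E (j c : ℕ) : ℕ := getL tt (nat_lit 7) (nat_lit 127) j c
theorem T_eq (j c : ℕ) : T j c = E j c % 4 :=
  getL_mod (a := 2) (b := 7) _ _ (by norm_num) (by norm_num) (by norm_num) (by norm_num) j c
def rels : List (List ℕ) := [[nat_lit 0, nat_lit 1, nat_lit 0, nat_lit 1]]
def X_t : TN := (TN.leaf (nat_lit 0))
noncomputable def X (i : ℕ) : ℕ := get9 X_t (nat_lit 1) (nat_lit 1) i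
def Jp_t : TN := (TN.leaf (nat_lit 0))
noncomputable def Jp (i : ℕ) : ℕ := get9 Jp_t (nat_lit 1) (nat_lit 1) i
def J_t : TN := (TN.leaf (nat_lit 0))
noncomputable def J (k : ℕ) : ℕ := getV J_t Jp k
def Pa_t : TN := (TN.leaf (nat_lit 0x91414000))
noncomputable def Pa (i : ℕ) : ℕ := get9 Pa_t (nat_lit 8) (nat_lit 255) i
def W_t : TL := (TL.leaf [nat_lit 1, nat_lit 0, nat_lit 1, nat_lit 0, nat_lit 1])
noncomputable def W (i : ℕ) : List ℕ := TL.get W_t i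
def WA_t : TL := (TL.leaf [nat_lit 0])
noncomputable def WA (i : ℕ) : List ℕ := TL.get WA_t i
noncomputable def row : ℕ → ℕ := hRow (nat_lit 3) (nat_lit 2) (nat_lit 0) (nat_lit 4) (nat_lit 4) (nat_lit 16) (nat_lit 64) (nat_lit 64) (nat_lit 0) E X Pa (fun j => j) (wfun (nat_lit 1) W_t)
noncomputable def aux : ℕ → ℕ := hAux (nat_lit 4) (nat_lit 2) (nat_lit 4) (nat_lit 16) (nat_lit 64) (nat_lit 2) (nat_lit 2) (nat_lit 64) (nat_lit 0) E X J Pa (fun j => j) WA_t.get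
theorem r0 : Nat.beq (rng row (nat_lit 0) (nat_lit 4)) (nat_lit 0) = true := by decide +kernel
theorem rows : ∀ i < 4, row i = 0 := by
  have h := zero_lt_zero row
  have h := zero_lt_add (a := (nat_lit 0)) (n := (nat_lit 4)) (b := (nat_lit 4)) h r0 rfl
  exact h
theorem auxs : ∀ i < 0, aux i = 0 := by
  have h := zero_lt_zero aux
  exact h
theorem closes.{u} : ClosesT.{u} (fun j => j) rels 2 0 4 T :=
  hc_closes (N1 := (nat_lit 3)) rfl T_eq (by decide +kernel) rows auxs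
theorem T_inv : ∀ c < 4, ∀ j < 2, T j c < 4 ∧ T j (T j c) = c := 
  hc_inv (inv := (fun j => j)) (N1 := (nat_lit 3)) rfl T_eq rows
end L1

namespace L2
def t0x : TN := (TN.leaf (nat_lit 0x2db036a1250448))
def t1x : TN := (TN.leaf (nat_lit 0x36a4a24a110648))
def t2x : TN := (TN.leaf (nat_lit 0x972442b689081))
def tt : TN := (TN.node (TN.node (TN.node (TN.node t0x (TN.leaf (nat_lit 0))) (TN.node (TN.leaf (nat_lit 0)) (TN.leaf (nat_lit 0)))) (TN.node (TN.node t2x (TN.leaf (nat_lit 0))) (TN.node (TN.leaf (nat_lit 0)) (TN.leaf (nat_lit 0))))) (TN.node (TN.node (TN.node t1x (TN.leaf (nat_lit 0))) (TN.node (TN.leaf (nat_lit 0)) (TN.leaf (nat_lit 0)))) (TN.node (TN.node (TN.leaf (nat_lit 0)) (TN.leaf (nat_lit 0))) (TN.node (TN.leaf (nat_lit 0)) (TN.leaf (nat_lit 0))))))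
noncomputable def T (j c : ℕ) : ℕ := getL tt (nat_lit 9) (nat_lit 7) j c
noncomputable def E (j c : ℕ) : ℕ := getL tt (nat_lit 9) (nat_lit 511) j c
theorem T_eq (j c : ℕ) : T j c = E j c % 8 :=
  getL_mod (a := 3) (b := 9) _ _ (by norm_num) (by norm_num) (by norm_num) (by norm_num) j c
def rels : List (List ℕ) := [[nat_lit 0, nat_lit 1, nat_lit 0, nat_lit 1], [nat_lit 0, nat_lit 2, nat_lit 0, nat_lit 2, nat_lit 0, nat_lit 2], [nat_lit 0, nat_lit 1, nat_lit 2, nat_lit 0, nat_lit 1, nat_lit 2, nat_lit 0, nat_lit 1, nat_lit 2]]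
def X_t : TN := (TN.leaf (nat_lit 0))
noncomputable def X (i : ℕ) : ℕ := get9 X_t (nat_lit 1) (nat_lit 1) i
def Jp_t : TN := (TN.leaf (nat_lit 0))
noncomputable def Jp (i : ℕ) : ℕ := get9 Jp_t (nat_lit 1) (nat_lit 1) i
def J_t : TN := (TN.leaf (nat_lit 0))
noncomputable def J (k : ℕ) : ℕ := getV J_t Jp k
def Pa_t : TN := (TN.leaf (nat_lit 0x365a188c410400))
noncomputable def Pa (i : ℕ) : ℕ := get9 Pa_t (nat_lit 9) (nat_lit 511) i
def W_t : TL := (TL.node (TL.node (TL.node (TL.leaf [nat_lit 1, nat_lit 0, nat_lit 1, nat_lit 0, nat_lit 1]) (TL.leaf [nat_lit 4099, nat_lit 1, nat_lit 2, nat_lit 0, nat_lit 1, nat_lit 2, nat_lit 0, nat_lit 1, nat_lit 2, nat_lit 0])) (TL.leaf [nat_lit 4098, nat_lit 2, nat_lit 1, nat_lit 0, nat_lit 2, nat_lit 1, nat_lit 0, nat_lit 2, nat_lit 1, nat_lit 0])) (TL.node (TL.leaf [nat_lit 2051, nat_lit 2, nat_lit 0, nat_lit 2, nat_lit 0, nat_lit 2, nat_lit 0]) (TL.leaf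 [nat_lit 2049, nat_lit 0, nat_lit 2, nat_lit 0, nat_lit 2, nat_lit 0, nat_lit 2])))
noncomputable def W (i : ℕ) : List ℕ := TL.get W_t i
def WA_t : TL := (TL.leaf [nat_lit 0])
noncomputable def WA (i : ℕ) : List ℕ := TL.get WA_t i
noncomputable def row : ℕ → ℕ := hRow (nat_lit 5) (nat_lit 3) (nat_lit 2) (nat_lit 8) (nat_lit 8) (nat_lit 64) (nat_lit 128) (nat_lit 128) (nat_lit 0) E X Pa (fun j => j) (wfun (nat_lit 5) W_t)
noncomputable def aux : ℕ → ℕ := hAux (nat_lit 6) (nat_lit 3) (nat_lit 8) (nat_lit 64) (nat_lit 128) (nat_lit 2) (nat_lit 2) (nat_lit 128) (nat_lit 0) E X J Pa (fun j => j) WA_t.get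
theorem r0 : Nat.beq (rng row (nat_lit 0) (nat_lit 6)) (nat_lit 0) = true := by decide +kernel
theorem rows : ∀ i < 6, row i = 0 := by
  have h := zero_lt_zero row
  have h := zero_lt_add (a := (nat_lit 0)) (n := (nat_lit 6)) (b := (nat_lit 6)) h r0 rfl
  exact h
theorem auxs : ∀ i < 0, aux i = 0 := by
  have h := zero_lt_zero aux
  exact h
theorem closes.{u} : ClosesT.{u} (fun j => j) rels 3 2 6 T :=
  hc_closes (N1 := (nat_lit 5)) rfl T_eq (by decide +kernel) rows auxs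
theorem T_inv : ∀ c < 6, ∀ j < 3, T j c < 6 ∧ T j (T j c) = c := 
  hc_inv (inv := (fun j => j)) (N1 := (nat_lit 5)) rfl T_eq rows
end L2

namespace L3
def t0x : TN := (TN.leaf (nat_lit 0x2be8f6036708940888))
def t1x : TN := (TN.leaf (nat_lit 0x34eb348a2250440c88))
def t2x : TN := (TN.leaf (nat_lit 0x8c2290690d0564488))
def t3x : TN := (TN.leaf (nat_lit 0x3848d7566ada222101))
def tt : TN := (TN.node (TN.node (TN.node (TN.node t0x (TN.leaf (nat_lit 0))) (TN.node (TN.leaf (nat_lit 0)) (TN.leaf (nat_lit 0)))) (TN.node (TN.node t2x (TN.leaf (nat_lit 0))) (TN.node (TN.leaf (nat_lit 0)) (TN.leaf (nat_lit 0))))) (TN.node (TN.node (TN.node t1x (TN.leaf (nat_lit 0))) (TN.node (TN.leaf (nat_lit 0)) (TN.leaf (nat_lit 0)))) (TN.node (TN.node t3x (TN.leaf (nat_lit 0))) (TN.node (TN.leaf (nat_lit 0)) (TN.leaf (nat_lit 0))))))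
noncomputable def T (j c : ℕ) : ℕ := getL tt (nat_lit 10) (nat_lit 7) j c
noncomputable def E (j c : ℕ) : ℕ := getL tt (nat_lit 10) (nat_lit 1023) j c
theorem T_eq (j c : ℕ) : T j c = E j c % 8 :=
  getL_mod (a := 3) (b := 10) _ _ (by norm_num) (by norm_num) (by norm_num) (by norm_num) j c
def rels : List (List ℕ) := [[nat_lit 0, nat_lit 1, nat_lit 0, nat_lit 1], [nat_lit 0, nat_lit 2, nat_lit 0, nat_lit 2, nat_lit 0, nat_lit 2], [nat_lit 0, nat_lit 1, nat_lit 2, nat_lit 0, nat_lit 1, nat_lit 2, nat_lit 0, nat_lit 1, nat_lit 2], [nat_lit 0, nat_lit 3, nat_lit 0, nat_lit 3, nat_lit 0, nat_lit 3], [nat_lit 1, nat_lit 3, nat_lit 1, nat_lit 3, nat_lit 1, nat_lit 3], [nat_lit 2, nat_lit 3, nat_lit 2, nat_lit 3], [nat_lit 1, nat_lit 2, nat_lit 3, nat_lit 1, nat_lit 2, nat_lit 3, nat_lit 1, nat_lit 2, nat_lit 3]]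
def X_t : TN := (TN.leaf (nat_lit 0))
noncomputable def X (i : ℕ) : ℕ := get9 X_t (nat_lit 1) (nat_lit 1) i
def Jp_t : TN := (TN.leaf (nat_lit 0))
noncomputable def Jp (i : ℕ) : ℕ := get9 Jp_t (nat_lit 1) (nat_lit 1) i
def J_t : TN := (TN.leaf (nat_lit 0))
noncomputable def J (k : ℕ) : ℕ := getV J_t Jp k
def Pa_t : TN := (TN.leaf (nat_lit 0x242689a14451020c00))
noncomputable def Pa (i : ℕ) : ℕ := get9 Pa_t (nat_lit 10) (nat_lit 1023) i
def W_t : TL := (TL.node (TL.node (TL.node (TL.node (TL.leaf [nat_lit 10241, nat_lit 2, nat_lit 3, nat_lit 2, nat_lit 3]) (TL.leaf [nat_lit 12293, nat_lit 3, nat_lit 1, nat_lit 2, nat_lit 3, nat_lit 1, nat_lit 2, nat_lit 3, nat_lit 1, nat_lit 2])) (TL.leaf [nat_lit 10243, nat_lit 3, nat_lit 2, nat_lit 3, nat_lit 2])) (TL.node (TL.leaf [nat_lit 6147, nat_lit 3, nat_lit 0, nat_lit 3, nat_lit 0, nat_lit 3, nat_lit 0]) (TL.leaf [nat_lit 12291, nat_lit 2, nat_lit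 3, nat_lit 1, nat_lit 2, nat_lit 3, nat_lit 1, nat_lit 2, nat_lit 3, nat_lit 1]))) (TL.node (TL.node (TL.leaf [nat_lit 1, nat_lit 0, nat_lit 1, nat_lit 0, nat_lit 1]) (TL.leaf [nat_lit 2049, nat_lit 0, nat_lit 2, nat_lit 0, nat_lit 2, nat_lit 0, nat_lit 2])) (TL.node (TL.leaf [nat_lit 8195, nat_lit 3, nat_lit 1, nat_lit 3, nat_lit 1, nat_lit 3, nat_lit 1]) (TL.leaf [nat_lit 4099, nat_lit 1, nat_lit 2, nat_lit 0, nat_lit 1, nat_lit 2, nat_lit 0, nat_lit 1, nat_lit 2, nat_lit 0]))))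
noncomputable def W (i : ℕ) : List ℕ := TL.get W_t i
def WA_t : TL := (TL.leaf [nat_lit 0])
noncomputable def WA (i : ℕ) : List ℕ := TL.get WA_t i
noncomputable def row : ℕ → ℕ := hRow (nat_lit 6) (nat_lit 4) (nat_lit 3) (nat_lit 8) (nat_lit 16) (nat_lit 128) (nat_lit 128) (nat_lit 128) (nat_lit 0) E X Pa (fun j => j) (wfun (nat_lit 9) W_t)
noncomputable def aux : ℕ → ℕ := hAux (nat_lit 7) (nat_lit 4) (nat_lit 8) (nat_lit 128) (nat_lit 128) (nat_lit 2) (nat_lit 2) (nat_lit 128) (nat_lit 0) E X J Pa (fun j => j) WA_t.get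
theorem r0 : Nat.beq (rng row (nat_lit 0) (nat_lit 7)) (nat_lit 0) = true := by decide +kernel
theorem rows : ∀ i < 7, row i = 0 := by
  have h := zero_lt_zero row
  have h := zero_lt_add (a := (nat_lit 0)) (n := (nat_lit 7)) (b := (nat_lit 7)) h r0 rfl
  exact h
theorem auxs : ∀ i < 0, aux i = 0 := by
  have h := zero_lt_zero aux
  exact h
theorem closes.{u} : ClosesT.{u} (fun j => j) rels 4 3 7 T :=
  hc_closes (N1 := (nat_lit 6)) rfl T_eq (by decide +kernel) rows auxs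
theorem T_inv : ∀ c < 7, ∀ j < 4, T j c < 7 ∧ T j (T j c) = c := 
  hc_inv (inv := (fun j => j)) (N1 := (nat_lit 6)) rfl T_eq rows
end L3

def rels : List (List ℕ) := [[nat_lit 0, nat_lit 1, nat_lit 0, nat_lit 1], [nat_lit 0, nat_lit 2, nat_lit 0, nat_lit 2, nat_lit 0, nat_lit 2], [nat_lit 0, nat_lit 1, nat_lit 2, nat_lit 0, nat_lit 1, nat_lit 2, nat_lit 0, nat_lit 1, nat_lit 2], [nat_lit 0, nat_lit 3, nat_lit 0, nat_lit 3, nat_lit 0, nat_lit 3], [nat_lit 1, nat_lit 3, nat_lit 1, nat_lit 3, nat_lit 1, nat_lit 3], [nat_lit 2, nat_lit 3, nat_lit 2, nat_lit 3], [nat_lit 1, nat_lit 2, nat_lit 3, nat_lit 1, nat_lit 2, nat_lit 3, nat_lit 1, nat_lit 2, nat_lit 3]]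
theorem ub2 {Γ : Type} [Group Γ] {g : ℕ → Γ} (h1 : InvOK g (fun j => j) 4) (h2 : ∀ w ∈ rels, ev g w = 1) : CardLE (gen g 2) 4 :=
  tw h1 h2 L1.closes (by decide +kernel) (cardLE_gen_zero g)
theorem ub3 {Γ : Type} [Group Γ] {g : ℕ → Γ} (h1 : InvOK g (fun j => j) 4) (h2 : ∀ w ∈ rels, ev g w = 1) : CardLE (gen g 3) 24 :=
  tw h1 h2 L2.closes (by decide +kernel) (ub2 h1 h2)
theorem ub4 {Γ : Type} [Group Γ] {g : ℕ → Γ} (h1 : InvOK g (fun j => j) 4) (h2 : ∀ w ∈ rels, ev g w = 1) : CardLE (gen g 4) 168 :=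
  tw h1 h2 L3.closes (by decide +kernel) (ub3 h1 h2)

end Cfsg.Agent.Ct.L32
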