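import Cfsg.Agent.Lib.Cert.L32.M
import Cfsg.Agent.Lib.Cert.Lin3
import Cfsg.Agent.S0243

set_option autoImplicit false
set_option maxRecDepth 100000

namespace Cfsg.Agent.Ct.L32

open Cfsg.Agent.PC

open Cfsg.Agent.Fi Cfsg.Agent.Ct
def Ct : TN := (TN.node (TN.node (TN.node (TN.node (TN.leaf (nat_lit 0x10000000100000001)) (TN.leaf (nat_lit 0x10000000100000000))) (TN.node (TN.leaf (nat_lit 1)) (TN.leaf (nat_lit 1)))) (TN.node (TN.node (TN.leaf (nat_lit 0x100000000)) (TN.leaf (nat_lit 0x100000000))) (TN.node (TN.leaf (nat_lit 1)) (TN.leaf (nat_lit 0x10000000000000000))))) (TN.node (TN.node (TN.node (TN.leaf (nat_lit 0x10000000000000000)) (TN.leaf (nat_lit 0x100000001))) (TN.node (TN.leaf (nat_lit 0x10000000100000001)) (TN.leaf (nat_lit 0x100000000)))) (TN.node (TN.node (TN.leaf (nat_lit 0x100000000)) (TN.leaf (nat_lit 0x10000000100000000))) (TN.leaf (nat_lit 0x100000000)))))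
noncomputable def C (j i : ℕ) : ℕ := TN.get Ct (Nat.add (Nat.mul j (nat_lit 3)) i)
def ix : Fin 3 → ℕ := Fin.val
noncomputable def M (j : ℕ) : Matrix (Fin 3) (Fin 3) (ZMod 2) := mx ix 1 1 (C j)
def nv (i : ℕ) : ℕ := Nat.land (Nat.shiftRight (nat_lit 228) (Nat.mul (nat_lit 2) i)) (nat_lit 3)
def ws : List (List ℕ × ℕ) := [([nat_lit 0, nat_lit 1, nat_lit 0, nat_lit 1], (nat_lit 4)), ([nat_lit 0, nat_lit 2, nat_lit 0, nat_lit 2, nat_lit 0, nat_lit 2], (nat_lit 4)), ([nat_lit 0, nat_lit 1, nat_lit 2, nat_lit 0, nat_lit 1, nat_lit 2, nat_lit 0, nat_lit 1, nat_lit 2], (nat_lit 4)), ([nat_lit 0, nat_lit 3, nat_lit 0, nat_lit 3, nat_lit 0, nat_lit 3], (nat_lit 4)), ([nat_lit 1, nat_lit 3, nat_lit 1, nat_lit 3, nat_lit 1, nat_lit 3], (nat_lit 4)), ([nat_lit 2, nat_lit 3, nat_lit 2, nat_lit 3], (nat_lit 4)), ([nat_lit 1, nat_lit 2, nat_lit 3, nat_lit 1, nat_lit 2, nat_lit 3, nat_lit 1, nat_lit 2, nat_lit 3], (nat_lit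 4)), ([nat_lit 0, nat_lit 0], (nat_lit 4)), ([nat_lit 1, nat_lit 1], (nat_lit 4)), ([nat_lit 2, nat_lit 2], (nat_lit 4)), ([nat_lit 3, nat_lit 3], (nat_lit 4))]
theorem lm : Lm ix 1 2 1 3 M C 5 := ⟨by decide +kernel, by decide +kernel, by decide +kernel, by decide +kernel⟩
theorem hw : allE (fun w => Nat.add (Nat.add (lettE 4 w.1) (Nat.add (ltE w.2 5) (Nat.sub 4 w.2))) (eqL 2 1 3 5 C w.1 [w.2])) ws = 0 := by decide +kernel
theorem pq : Pr al (fun j => j) rels 4 := ⟨simple, ctr, top, ub, iv, rl, by decide +kernel⟩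
theorem iso {F : Type*} [Field F] [Fintype F] (hF : Fintype.card F = 2) : Nonempty (P ≃* Matrix.ProjectiveSpecialLinearGroup (Fin 3) F) := by
  obtain ⟨f⟩ := exK (K := (ZMod 2)) rfl hF
  refine iso_card (lm.emb f pq (lm.let f (n := nv) (by decide +kernel) fun j hj => fun _ _ => Subgroup.mem_top _) 0 (by decide +kernel) hw 0 2 1 0 (by decide +kernel) slU_inj le_sl) card ?_
  have := S0243.result hF 3 (by decide)
  norm_num [Fin.prod_univ_succ, Finset.prod_range_succ, Nat.even_iff] at this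
  omega

end Cfsg.Agent.Ct.L32
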